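import Mathlib

/-!
# Faithfulness from a double coset decomposition

`B`, `N` and rank one data `n i`, `X i` with the relations of a BN-pair give `G = B N B`.
A homomorphism which is injective on `B` and separates `N` from `B` is then injective.
-/

set_option autoImplicit false

namespace CfsgLib.PresLib

variable {G ι : Type*} [Group G] (B N : Subgroup G) (n : ι → G) (X : ι → Subgroup G)

/-- The double cosets `B w B`, `w ∈ N`. -/
def InBNB (g : G) : Prop := ∃ b ∈ B, ∃ w ∈ N, ∃ b' ∈ B, g = b * w * b'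

variable {B N n X}

theorem InBNB.left {g b : G} (hb : b ∈ B) (h : InBNB B N g) : InBNB B N (b * g) := by
  obtain ⟨b₁, h₁, w, hw, b₂, h₂, rfl⟩ := h
  exact ⟨b * b₁, mul_mem hb h₁, w, hw, b₂, h₂, by group⟩

theorem InBNB.step (i : ι) (hn : n i ∈ N)
    (hdec : ∀ b ∈ B, ∃ b₁ ∈ B, ∃ x ∈ X i, n i * b = b₁ * n i * x)
    (hrank : ∀ x ∈ X i, x ≠ 1 → ∃ b₁ ∈ B, ∃ x' ∈ X i, n i * x = b₁ * (n i * x' * (n i)⁻¹))
    (hside : ∀ w ∈ N, (∀ x ∈ X i, w⁻¹ * x * w ∈ B) ∨ (∀ x ∈ X i, w⁻¹ * (n i * x * (n i)⁻¹) * w ∈ B))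
    {g : G} (h : InBNB B N g) : InBNB B N (n i * g) := by
  obtain ⟨b, hb, w, hw, b', hb', rfl⟩ := h
  obtain ⟨b₁, hb₁, x, hx, e⟩ := hdec b hb
  rw [show n i * (b * w * b') = n i * b * w * b' by group, e]
  rcases hside w hw with h1 | h1
  · exact ⟨b₁, hb₁, n i * w, mul_mem hn hw, w⁻¹ * x * w * b', mul_mem (h1 x hx) hb', by group⟩
  · by_cases hx1 : x = 1
    · subst hx1
      exact ⟨b₁, hb₁, n i * w, mul_mem hn hw, b', hb', by group⟩
    · obtain ⟨b₂, hb₂, x', hx', e'⟩ := hrank x hx hx1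
      refine ⟨b₁ * b₂, mul_mem hb₁ hb₂, w, hw, w⁻¹ * (n i * x' * (n i)⁻¹) * w * b', mul_mem (h1 x' hx') hb', ?_⟩
      rw [mul_assoc b₁ (n i) x, e']
      group

/-- `G = B N B` and a homomorphism that is injective on `B` and keeps `N \ B` out of `B` is injective. -/
theorem injective_of_BNB {H : Type*} [Group H] (φ : G →* H)
    (hn : ∀ i, n i ∈ N) (hn2 : ∀ i, n i * n i ∈ B)
    (hdec : ∀ i, ∀ b ∈ B, ∃ b₁ ∈ B, ∃ x ∈ X i, n i * b = b₁ * n i * x)
    (hrank : ∀ i, ∀ x ∈ X i, x ≠ 1 → ∃ b₁ ∈ B, ∃ x' ∈ X i, n i * x = b₁ * (n i * x' * (n i)⁻¹))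
    (hside : ∀ i, ∀ w ∈ N, (∀ x ∈ X i, w⁻¹ * x * w ∈ B) ∨ (∀ x ∈ X i, w⁻¹ * (n i * x * (n i)⁻¹) * w ∈ B))
    (hgen : Subgroup.closure ((B : Set G) ∪ Set.range n) = ⊤)
    (hN : ∀ w ∈ N, φ w ∈ B.map φ → w ∈ B) (hB : ∀ b ∈ B, φ b = 1 → b = 1) :
    Function.Injective φ := by
  have hall : ∀ g, InBNB B N g := by
    intro g
    have hg : g ∈ Subgroup.closure ((B : Set G) ∪ Set.range n) := by rw [hgen]; trivial
    induction hg using Subgroup.closure_induction_left with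
    | one => exact ⟨1, one_mem _, 1, one_mem _, 1, one_mem _, by group⟩
    | mul_left z hz w _ ih =>
      rcases hz with hz | ⟨i, rfl⟩
      · exact ih.left hz
      · exact ih.step i (hn i) (hdec i) (hrank i) (hside i)
    | inv_mul_cancel z hz w _ ih =>
      rcases hz with hz | ⟨i, rfl⟩
      · exact ih.left (inv_mem hz)
      · rw [show (n i)⁻¹ * w = n i * ((n i * n i)⁻¹ * w) by group]
        exact (ih.left (inv_mem (hn2 i))).step i (hn i) (hdec i) (hrank i) (hside i)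
  refine (injective_iff_map_eq_one φ).2 fun g hg => ?_
  obtain ⟨b, hb, w, hw, b', hb', rfl⟩ := hall g
  have hwB : w ∈ B := by
    refine hN w hw ⟨b⁻¹ * b'⁻¹, mul_mem (inv_mem hb) (inv_mem hb'), ?_⟩
    simp only [map_mul, map_inv] at hg ⊢
    rw [mul_assoc, mul_eq_one_iff_eq_inv'.trans eq_comm] at hg
    calc (φ b)⁻¹ * (φ b')⁻¹ = (φ b)⁻¹ * (φ b * (φ w * φ b')) * (φ b')⁻¹ := by
          rw [mul_eq_one_iff_eq_inv'.2 hg.symm]; group
      _ = φ w := by group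
  exact hB _ (mul_mem (mul_mem hb hwB) hb') hg

end CfsgLib.PresLib
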