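import Mathlib

/-!
# A presentation of a quotient: add one relation
-/

set_option autoImplicit false

namespace CfsgLib.PresLib

/-- If `rels` presents `G` and the image of `z` normally generates `N`, then `insert z rels`
presents `G ⧸ N`. -/
theorem presentation_quotient {α : Type} {G : Type*} [Group G] (rels : Finset (FreeGroup α)) (n : ℕ)
    (hn : rels.card ≤ n) (e : PresentedGroup (↑rels : Set (FreeGroup α)) ≃* G) (N : Subgroup G) [N.Normal]
    (z : FreeGroup α) (hz : Subgroup.normalClosure {e (PresentedGroup.mk _ z)} = N) :
    ∃ rels' : Finset (FreeGroup α), rels'.card ≤ n + 1 ∧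
      Nonempty (PresentedGroup (↑rels' : Set (FreeGroup α)) ≃* G ⧸ N) := by
  classical
  refine ⟨insert z rels, (Finset.card_insert_le _ _).trans (by omega), ?_⟩
  let π : FreeGroup α →* G ⧸ N :=
    (QuotientGroup.mk' N).comp (e.toMonoidHom.comp (PresentedGroup.mk (↑rels : Set (FreeGroup α))))
  have hmk : Function.Surjective (PresentedGroup.mk (↑rels : Set (FreeGroup α))) :=
    QuotientGroup.mk_surjective
  have hπ : Function.Surjective π :=
    (QuotientGroup.mk'_surjective N).comp (e.surjective.comp hmk)
  have hker : Subgroup.normalClosure (↑(insert z rels) : Set (FreeGroup α)) = π.ker := by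
    apply le_antisymm
    · refine Subgroup.normalClosure_le_normal ?_
      intro r hr
      rw [SetLike.mem_coe, MonoidHom.mem_ker]
      rcases Finset.mem_insert.1 (Finset.mem_coe.1 hr) with rfl | h
      · show QuotientGroup.mk' N (e (PresentedGroup.mk _ r)) = 1
        rw [QuotientGroup.mk'_apply, QuotientGroup.eq_one_iff, ← hz]
        exact Subgroup.subset_normalClosure rfl
      · show QuotientGroup.mk' N (e (PresentedGroup.mk _ r)) = 1
        rw [PresentedGroup.one_of_mem (Finset.mem_coe.2 h), map_one, map_one]
    · intro r hr
      let σ : FreeGroup α →* G := e.toMonoidHom.comp (PresentedGroup.mk (↑rels : Set (FreeGroup α)))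
      have hσ : Function.Surjective σ := e.surjective.comp hmk
      have h1 : σ r ∈ N := by
        have : QuotientGroup.mk' N (σ r) = 1 := hr
        rwa [QuotientGroup.mk'_apply, QuotientGroup.eq_one_iff] at this
      rw [← hz, show ({e (PresentedGroup.mk _ z)} : Set G) = σ '' {z} by simp [σ],
        ← Subgroup.map_normalClosure {z} σ hσ] at h1
      obtain ⟨r', hr', e'⟩ := h1
      have hd : r'⁻¹ * r ∈ Subgroup.normalClosure (↑(insert z rels) : Set (FreeGroup α)) := by
        refine Subgroup.normalClosure_mono (show (↑rels : Set (FreeGroup α)) ⊆ ↑(insert z rels) by simp) ?_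
        show r'⁻¹ * r ∈ Subgroup.normalClosure (↑rels : Set (FreeGroup α))
        have : PresentedGroup.mk (↑rels : Set (FreeGroup α)) (r'⁻¹ * r) = 1 := by
          apply e.injective
          rw [map_one, map_mul, map_inv, map_mul, map_inv]
          exact inv_mul_eq_one.2 e'
        exact PresentedGroup.mk_eq_one_iff.1 this
      have hr'2 : r' ∈ Subgroup.normalClosure (↑(insert z rels) : Set (FreeGroup α)) :=
        Subgroup.normalClosure_mono (by simp) hr'
      have := mul_mem hr'2 hd
      rwa [mul_inv_cancel_left] at this
  exact ⟨(QuotientGroup.quotientMulEquivOfEq hker).trans (QuotientGroup.quotientKerEquivOfSurjective π hπ)⟩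

end CfsgLib.PresLib
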